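import Groth.Agent.EGA4Lib.Hyperplane

/-!
# Heights in a hyperplane section
-/

set_option autoImplicit false

universe u

open IsLocalRing

namespace Groth.Agent.HypHt6

variable {A : Type u} [CommRing A]

theorem notMem_minimalPrimes [IsNoetherianRing A] [IsLocalRing A] (hA : EGA4.IsEquidim A) (t : A)
    (ht : ringKrullDim (A ⧸ Ideal.span {t}) + 1 = ringKrullDim A) (P : Ideal A) (hP : P ∈ minimalPrimes A) :
    t ∉ P := by
  intro htP
  have h1 : ringKrullDim (A ⧸ P) ≤ ringKrullDim (A ⧸ Ideal.span {t}) :=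
    ringKrullDim_le_of_surjective _ (Ideal.Quotient.factor_surjective ((Ideal.span_singleton_le_iff_mem _).2 htP))
  rw [hA P hP, ← ht] at h1
  haveI : Nontrivial (A ⧸ Ideal.span {t}) :=
    Ideal.Quotient.nontrivial_iff.2 fun h => hP.1.1.ne_top (top_le_iff.1 (h ▸ (Ideal.span_singleton_le_iff_mem _).2 htP))
  haveI : IsLocalRing (A ⧸ Ideal.span {t}) := IsLocalRing.of_surjective' _ Ideal.Quotient.mk_surjective
  obtain ⟨d, hd⟩ : ∃ d : ℕ, ringKrullDim (A ⧸ Ideal.span {t}) = d :=
    ⟨_, (IsLocalRing.maximalIdeal_height_eq_ringKrullDim.symm.trans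
      (congrArg WithBot.some (ENat.coe_toNat (Ideal.height_ne_top (maximalIdeal.isMaximal _).ne_top)).symm))⟩
  rw [hd] at h1
  norm_cast at h1
  omega

theorem le_height [IsNoetherianRing A] [IsLocalRing A] (hA : EGA4.IsEquidim A) (hA' : CAlg.IsCatenary A) (t : A)
    (ht : ringKrullDim (A ⧸ Ideal.span {t}) + 1 = ringKrullDim A) (Z : Set (PrimeSpectrum A))
    (hZ : StableUnderSpecialization Z) (p : PrimeSpectrum A) (hp : p ∈ Z) :
    (⨅ p ∈ {p ∈ Z | t ∈ p.asIdeal}, (p.asIdeal.map (Ideal.Quotient.mk (Ideal.span {t}))).height) ≤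
      p.asIdeal.height := by
  have htm : t ∈ maximalIdeal A := by
    by_contra h
    have hu : IsUnit t := by rwa [IsLocalRing.mem_maximalIdeal, mem_nonunits_iff, not_not] at h
    haveI : Subsingleton (A ⧸ Ideal.span {t}) :=
      Ideal.Quotient.subsingleton_iff.2 (Ideal.span_singleton_eq_top.2 hu)
    rw [ringKrullDim_eq_bot_of_subsingleton, WithBot.bot_add] at ht
    exact ringKrullDim_ne_bot ht.symm
  obtain ⟨q, hqZ, htq, hq⟩ : ∃ q : PrimeSpectrum A, q ∈ Z ∧ t ∈ q.asIdeal ∧
      q.asIdeal.height ≤ p.asIdeal.height + 1 := by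
    by_cases htp : t ∈ p.asIdeal
    · exact ⟨p, hp, htp, le_self_add⟩
    obtain ⟨q, hq, htq, hpq, hmin⟩ := EGA4Lib.exists_prime_succ htm p.asIdeal htp
    have hcov := EGA4Lib.covBy_of_minimal hpq htp htq hmin
    refine ⟨⟨q, hq⟩, hZ ((PrimeSpectrum.le_iff_specializes _ _).1 (show p ≤ ⟨q, hq⟩ from hpq.le)) hp, htq, ?_⟩
    refine (EGA4Lib.height_succ_of_covBy hA' hA p ⟨q, hq⟩ ⟨hpq, fun r hr hr' => ?_⟩).le
    exact hr'.ne (PrimeSpectrum.ext (hcov r.asIdeal r.isPrime hr hr'.le))
  refine (iInf₂_le q ⟨hqZ, htq⟩).trans ?_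
  let f := Ideal.Quotient.mk (Ideal.span {t})
  haveI : (q.asIdeal.map f).IsPrime := Ideal.map_isPrime_of_surjective Ideal.Quotient.mk_surjective
    (by rw [Ideal.mk_ker]; exact (Ideal.span_singleton_le_iff_mem _).2 htq)
  rw [show (q.asIdeal.map f).height = Order.height (⟨q.asIdeal.map f, inferInstance⟩ : PrimeSpectrum (A ⧸ Ideal.span {t}))
    from PrimeSpectrum.height_eq_orderHeight ⟨q.asIdeal.map f, inferInstance⟩]
  refine Order.height_le fun l hl => ?_
  let l' : LTSeries (PrimeSpectrum A) := l.map (PrimeSpectrum.comap f)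
    (Monotone.strictMono_of_injective (fun a b h => Ideal.comap_mono h)
      (PrimeSpectrum.comap_injective_of_surjective f Ideal.Quotient.mk_surjective))
  obtain ⟨P, hP, hle⟩ := Ideal.exists_minimalPrimes_le (bot_le : (⊥ : Ideal A) ≤ l'.head.asIdeal)
  have hth : t ∈ l'.head.asIdeal := by
    show f t ∈ l.head.asIdeal
    rw [Ideal.Quotient.eq_zero_iff_mem.2 (Ideal.mem_span_singleton_self t)]
    exact zero_mem _
  have hlt : (⟨P, hP.1.1⟩ : PrimeSpectrum A) < l'.head :=
    lt_of_le_of_ne hle fun h => notMem_minimalPrimes hA t ht P hP (by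
      have : P = l'.head.asIdeal := congrArg PrimeSpectrum.asIdeal h
      rw [this]; exact hth)
  have hlast : (l'.cons _ hlt).last = q := by
    rw [RelSeries.last_cons]
    show PrimeSpectrum.comap f l.last = q
    rw [hl]
    refine PrimeSpectrum.ext ?_
    show (q.asIdeal.map f).comap f = q.asIdeal
    rw [Ideal.comap_map_of_surjective' f Ideal.Quotient.mk_surjective, Ideal.mk_ker]
    exact sup_eq_left.2 ((Ideal.span_singleton_le_iff_mem _).2 htq)
  have h1 := Order.length_le_height (p := l'.cons _ hlt) (x := q) hlast.le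
  rw [← PrimeSpectrum.height_eq_orderHeight] at h1
  have h2 := h1.trans hq
  simp only [RelSeries.cons_length, Nat.cast_add, Nat.cast_one] at h2
  exact WithTop.le_of_add_le_add_right ENat.one_ne_top h2

end Groth.Agent.HypHt6
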